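import Groth.Agent.H80.Inertia.Standard
import Mathlib.RingTheory.Invariant.Basic
import Mathlib.RingTheory.Ideal.Pointwise
import Mathlib.FieldTheory.PrimitiveElement
import Mathlib.FieldTheory.Fixed
import Mathlib.Algebra.Polynomial.Expand
import Mathlib.Algebra.CharP.Lemmas
import Mathlib.GroupTheory.Coset.Card
import Mathlib.GroupTheory.GroupAction.Quotient

/-!
# An element of the inertia invariants separating the conjugates of a prime
-/

set_option autoImplicit false
set_option backward.isDefEq.respectTransparency false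

universe u v

open Polynomial Pointwise

namespace Groth.Agent.H80.Inertia

variable {R : Type u} [CommRing R] {G : Type v} [Group G] [Finite G] [MulSemiringAction G R]

omit [Finite G] in
theorem smul_mem_iff (d : G) (q : Ideal R) (hd : d • q = q) (x : R) : d • x ∈ q ↔ x ∈ q := by
  conv_lhs => rw [← hd]
  exact Ideal.smul_mem_pointwise_smul_iff

/-- An element invariant under the decomposition group, outside `q`, inside the other conjugates. -/
theorem exists_decomposition_idem (q : Ideal R) [q.IsPrime] :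
    ∃ y : R, y ∉ q ∧ (∀ d : G, d • q = q → d • y = y) ∧ ∀ σ : G, σ • q ≠ q → σ • y ∈ q := by
  classical
  have := Fintype.ofFinite G
  have h1 : ∀ σ : G, ∃ e : R, e ∉ q ∧ (σ • q ≠ q → σ • e ∈ q) := by
    intro σ
    by_cases h : σ • q = q
    · exact ⟨1, fun h1 => ‹q.IsPrime›.ne_top ((Ideal.eq_top_iff_one q).mpr h1), fun h' => absurd h h'⟩
    have hne : ¬ σ⁻¹ • q ≤ q := fun hle => h (by
      have := smul_eq_of_smul_le hle
      conv_lhs => rw [← this]
      rw [smul_inv_smul])
    obtain ⟨e, he, heq⟩ := SetLike.not_le_iff_exists.mp hne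
    refine ⟨e, heq, fun _ => ?_⟩
    rwa [← Ideal.mem_inv_pointwise_smul_iff]
  choose e he he' using h1
  let y₀ := ∏ σ : G, e σ
  refine ⟨∏ d ∈ Finset.univ.filter (fun d : G => d • q = q), d • y₀, ?_, ?_, ?_⟩
  · rw [Ideal.IsPrime.prod_mem_iff]
    rintro ⟨d, hd, hmem⟩
    rw [smul_mem_iff d q (Finset.mem_filter.mp hd).2, Ideal.IsPrime.prod_mem_iff] at hmem
    obtain ⟨σ, -, hσ⟩ := hmem
    exact he σ hσ
  · intro d hd
    rw [Finset.smul_prod']
    refine Finset.prod_equiv (Equiv.mulLeft d) (fun g => ?_) fun g _ => by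
      rw [smul_smul]; rfl
    simp only [Finset.mem_filter, Finset.mem_univ, true_and, Equiv.coe_mulLeft, mul_smul]
    constructor
    · intro hg; rw [hg, hd]
    · intro hg
      exact smul_left_cancel d (hg.trans hd.symm)
  · intro σ hσ
    rw [Finset.smul_prod', Ideal.IsPrime.prod_mem_iff]
    refine ⟨1, by simp, ?_⟩
    rw [one_smul, Finset.smul_prod', Ideal.IsPrime.prod_mem_iff]
    exact ⟨σ, Finset.mem_univ _, he' σ hσ⟩

/-- An element moved modulo `q` by every element of the decomposition group outside the inertia group. -/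
theorem exists_moved (q : Ideal R) [q.IsPrime] :
    ∃ x : R, ∀ d : G, d • q = q → d • x - x ∈ q → d ∈ q.inertia G := by
  classical
  let A := FixedPoints.subring R G
  have : Algebra.IsInvariant A R G := ⟨fun b hb => ⟨⟨b, hb⟩, rfl⟩⟩
  have : SMulCommClass G A R := ⟨fun g a b => by
    change g • ((a : R) * b) = (a : R) * g • b
    rw [smul_mul', show g • (a : R) = a from a.2 g]⟩
  let P := q.under A
  have : q.LiesOver P := ⟨rfl⟩
  let K := FractionRing (A ⧸ P)
  let L := FractionRing (R ⧸ q)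
  let _ := FractionRing.liftAlgebra (A ⧸ P) L
  let Γ := (IsFractionRing.stabilizerHom G P q K L).range
  have : Finite Γ := Set.finite_range (IsFractionRing.stabilizerHom G P q K L) |>.to_subtype
  obtain ⟨u, hu⟩ := Field.exists_primitive_element (FixedPoints.subfield Γ L) L
  obtain ⟨a, b, hb, hab⟩ := IsFractionRing.div_surjective (R ⧸ q) u
  obtain ⟨a, rfl⟩ := Ideal.Quotient.mk_surjective a
  obtain ⟨b, rfl⟩ := Ideal.Quotient.mk_surjective b
  have hbq : b ∉ q := fun h => nonZeroDivisors.ne_zero hb (Ideal.Quotient.eq_zero_iff_mem.mpr h)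
  let D := MulAction.stabilizer G q
  have := Fintype.ofFinite D
  let N : R := ∏ d : D, (d : G) • b
  let x : R := a * ∏ d ∈ Finset.univ.erase (1 : D), (d : G) • b
  refine ⟨x, fun d hd hdx => ?_⟩
  let δ : D := ⟨d, hd⟩
  let ev : R →+* L := (algebraMap (R ⧸ q) L).comp (Ideal.Quotient.mk q)
  have hev : ∀ r, IsFractionRing.stabilizerHom G P q K L δ (ev r) = ev (d • r) := fun r =>
    IsFractionRing.stabilizerHom_apply_apply_mk G P q K L δ r
  have hNeq : N = b * ∏ d ∈ Finset.univ.erase (1 : D), (d : G) • b := by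
    simp only [N]
    rw [← Finset.mul_prod_erase _ _ (Finset.mem_univ (1 : D)), OneMemClass.coe_one, one_smul]
  have hNq : N ∉ q := by
    rw [Ideal.IsPrime.prod_mem_iff]
    rintro ⟨c, -, hc⟩
    exact hbq ((smul_mem_iff _ q c.2 b).mp hc)
  have hNfix : d • N = N := by
    rw [Finset.smul_prod']
    exact Fintype.prod_equiv (Equiv.mulLeft δ) _ _ fun c => smul_smul _ _ _
  have hevN : ev N ≠ 0 := fun h => hNq (Ideal.Quotient.eq_zero_iff_mem.mp
    (IsFractionRing.injective (R ⧸ q) L (h.trans (map_zero _).symm)))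
  have hevb : ev b ≠ 0 := fun h => hbq (Ideal.Quotient.eq_zero_iff_mem.mp
    (IsFractionRing.injective (R ⧸ q) L (h.trans (map_zero _).symm)))
  have hxu : ev x = u * ev N := by
    rw [← hab, hNeq, map_mul, map_mul]
    change ev a * _ = ev a / ev b * (ev b * _)
    rw [← mul_assoc, div_mul_cancel₀ _ hevb]
  let τ := IsFractionRing.stabilizerHom G P q K L δ
  have hτu : τ u = u := by
    have h1 : τ (ev x) = ev x := by
      rw [hev]
      exact congrArg (algebraMap (R ⧸ q) L) (Ideal.Quotient.eq.mpr hdx)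
    rw [hxu, map_mul, show τ (ev N) = ev N by rw [hev, hNfix]] at h1
    exact mul_right_cancel₀ hevN h1
  have hτ : τ = 1 := by
    refine AlgEquiv.ext fun z => ?_
    have hz : z ∈ IntermediateField.adjoin (FixedPoints.subfield Γ L) {u} := hu ▸ trivial
    induction hz using IntermediateField.adjoin_induction with
    | mem w hw => obtain rfl := hw; exact hτu
    | algebraMap c => exact c.2 (⟨τ, δ, rfl⟩ : Γ)
    | add y z _ _ hy hz => rw [map_add, hy, hz]; rfl
    | inv y _ hy => rw [map_inv₀, hy]; rfl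
    | mul y z _ _ hy hz => rw [map_mul, hy, hz]; rfl
  have hker : δ ∈ (IsFractionRing.stabilizerHom G P q K L).ker := hτ
  rw [IsFractionRing.ker_stabilizerHom] at hker
  exact Ideal.coe_mem_inertia.mpr hker

omit [Finite G] in
theorem exists_congr_invariant (q : Ideal R) [q.IsPrime] (H : Subgroup G) [Fintype H]
    (x : R) (hx : ∀ h : H, h • x - x ∈ q) :
    ∃ (θ : R) (N : ℕ) (c : R), (∀ h : H, h • θ = θ) ∧ c ∉ q ∧ (∀ σ : G, σ • c = c) ∧
      θ - c * x ^ N ∈ q ∧ (∀ a b : R, a ^ N - b ^ N ∈ q → a - b ∈ q) := by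
  classical
  obtain ⟨p, hp⟩ := ExpChar.exists (R ⧸ q)
  obtain ⟨a, m, hm, hcard⟩ : ∃ a m : ℕ, ((m : ℕ) : R ⧸ q) ≠ 0 ∧ Fintype.card H = p ^ a * m := by
    rcases hp with _ | ⟨hprime⟩
    · exact ⟨0, Fintype.card H, Nat.cast_ne_zero.mpr Fintype.card_ne_zero, by simp⟩
    · obtain ⟨a, m, hndvd, hm⟩ := Nat.exists_eq_pow_mul_and_not_dvd (Fintype.card_ne_zero (α := H)) p hprime.ne_one
      exact ⟨a, m, fun h => hndvd ((CharP.cast_eq_zero_iff (R ⧸ q) p m).mp h), hm⟩
  have hm1 : m ≠ 0 := by rintro rfl; simp at hm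
  let P : R[X] := ∏ h : H, (X - Polynomial.C (h • x))
  have hsm : ∀ h : H, h • P = P := fun h => by
    have hP : P = MulSemiringAction.charpoly H x := rfl
    rw [hP, MulSemiringAction.smul_charpoly]
  have hmap : P.map (Ideal.Quotient.mk q) =
      expand (R ⧸ q) (p ^ a) ((X + Polynomial.C (-(Ideal.Quotient.mk q x) ^ p ^ a)) ^ m) := by
    rw [Polynomial.map_prod, Finset.prod_congr rfl (g := fun _ => X - Polynomial.C (Ideal.Quotient.mk q x)) fun h _ => by
      rw [Polynomial.map_sub, Polynomial.map_X, Polynomial.map_C, Ideal.Quotient.eq.mpr (hx h)],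
      Finset.prod_const, Finset.card_univ, hcard, pow_mul, sub_pow_expChar_pow, map_pow, map_add, expand_X,
      expand_C, map_neg, ← map_pow, sub_eq_add_neg]
  refine ⟨P.coeff ((m - 1) * p ^ a), p ^ a, -(m : R), fun h => ?_, fun h => hm ?_, fun σ => ?_, ?_, fun y z hyz => ?_⟩
  · conv_rhs => rw [← hsm h, Polynomial.coeff_smul]
  · rw [Ideal.neg_mem_iff] at h
    rw [← map_natCast (Ideal.Quotient.mk q)]
    exact Ideal.Quotient.eq_zero_iff_mem.mpr h
  · rw [smul_neg]
    exact congrArg Neg.neg (map_natCast (MulSemiringAction.toRingHom G R σ) m)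
  · refine Ideal.Quotient.eq.mp ?_
    rw [← Polynomial.coeff_map, hmap, coeff_expand_mul (pow_pos (expChar_pos (R ⧸ q) p) a),
      coeff_X_add_C_pow, show m - (m - 1) = 1 by omega, pow_one, show m.choose (m - 1) = m by
        conv_lhs => rw [← Nat.choose_symm (by omega : m - 1 ≤ m), show m - (m - 1) = 1 by omega, Nat.choose_one_right],
      map_mul, map_neg, map_natCast, map_pow]
    ring
  · refine Ideal.Quotient.eq.mp (iterateFrobenius_inj (R ⧸ q) p a ?_)
    simp only [iterateFrobenius_def, ← map_pow]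
    exact Ideal.Quotient.eq.mpr hyz

/-- An inertia invariant element whose other conjugates are incongruent to it modulo `q`. -/
theorem exists_separating (q : Ideal R) [q.IsPrime] :
    ∃ θ : R, (∀ h ∈ q.inertia G, h • θ = θ) ∧ ∀ σ : G, σ ∉ q.inertia G → σ • θ - θ ∉ q := by
  classical
  obtain ⟨y, hyq, hyD, hy⟩ := exists_decomposition_idem (G := G) q
  obtain ⟨x, hx⟩ := exists_moved (G := G) q
  have hID : ∀ h ∈ q.inertia G, h • q = q := fun h hh => Ideal.inertia_le_stabilizer q hh
  obtain ⟨θ₁, hθ₁I, hθ₁q, hθ₁⟩ : ∃ θ₁ : R, (∀ h ∈ q.inertia G, h • θ₁ = θ₁) ∧ θ₁ ∉ q ∧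
      ∀ d : G, d • q = q → d • θ₁ - θ₁ ∈ q → d ∈ q.inertia G := by
    by_cases hxq : x ∈ q
    · exact ⟨1, fun h _ => smul_one h, fun h => ‹q.IsPrime›.ne_top ((Ideal.eq_top_iff_one q).mpr h),
        fun d hd _ => hx d hd (sub_mem ((smul_mem_iff d q hd x).mpr hxq) hxq)⟩
    have := Fintype.ofFinite (q.inertia G)
    obtain ⟨θ, N, c, hθ, hcq, hc, hcong, hinj⟩ := exists_congr_invariant q (q.inertia G) x fun h => h.2 x
    refine ⟨θ, fun h hh => hθ ⟨h, hh⟩, fun h => ?_, fun d hd hdθ => hx d hd (hinj _ _ ?_)⟩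
    · have : c * x ^ N ∈ q := by simpa using sub_mem h hcong
      exact (‹q.IsPrime›.mem_or_mem this).elim hcq fun h' => hxq (‹q.IsPrime›.mem_of_pow_mem _ h')
    · have h1 : d • θ - c * (d • x) ^ N ∈ q := by
        have := (smul_mem_iff d q hd _).mpr hcong
        rwa [smul_sub, smul_mul', hc, smul_pow'] at this
      have h2 : c * ((d • x) ^ N - x ^ N) ∈ q := by
        have h3 := add_mem (sub_mem hdθ h1) hcong
        rwa [show d • θ - θ - (d • θ - c * (d • x) ^ N) + (θ - c * x ^ N) = c * ((d • x) ^ N - x ^ N) by ring] at h3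
      exact (‹q.IsPrime›.mem_or_mem h2).resolve_left hcq
  refine ⟨θ₁ * y, fun h hh => by rw [smul_mul', hθ₁I h hh, hyD h (hID h hh)], fun σ hσ hmem => ?_⟩
  by_cases hσq : σ • q = q
  · rw [smul_mul', hyD σ hσq, ← sub_mul] at hmem
    exact hσ (hθ₁ σ hσq ((‹q.IsPrime›.mem_or_mem hmem).resolve_right hyq))
  · have h1 : σ • (θ₁ * y) ∈ q := by rw [smul_mul']; exact q.mul_mem_left _ (hy σ hσq)
    have h2 : θ₁ * y ∈ q := by simpa using sub_mem h1 hmem
    exact (‹q.IsPrime›.mem_or_mem h2).elim hθ₁q hyq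

/-- Etaleness of the inertia invariants over the invariants, with the separating element. -/
theorem exists_etale (q : Ideal R) [q.IsPrime] (H : Subgroup G) (hH : H = q.inertia G)
    {A : Type u} [CommRing A] [Algebra A R] (hA : Function.Injective (algebraMap A R))
    (hAfix : ∀ (a : A) (σ : G), σ • algebraMap A R a = algebraMap A R a)
    (hAinv : ∀ r : R, (∀ σ : G, σ • r = r) → ∃ a, algebraMap A R a = r)
    {S : Type u} [CommRing S] [Algebra A S] (i : S →ₐ[A] R) (hi : Function.Injective i)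
    (hSfix : ∀ (x : S) (h : H), (h : G) • i x = i x)
    (hSinv : ∀ r : R, (∀ h ∈ H, h • r = r) → ∃ x, i x = r) :
    ∃ g : S, i g ∉ q ∧ Algebra.Etale A (Localization.Away g) := by
  classical
  obtain ⟨θ₀, hθI, hθ⟩ := exists_separating (G := G) q
  obtain ⟨θ, rfl⟩ := hSinv θ₀ (hH ▸ hθI)
  have : Nontrivial R := ⟨⟨0, 1, fun h => ‹q.IsPrime›.ne_top ((Ideal.eq_top_iff_one q).mpr (h ▸ q.zero_mem))⟩⟩
  have := Fintype.ofFinite (G ⧸ H)
  let s : G ⧸ H → S →ₐ[A] R := fun c =>
    { (MulSemiringAction.toRingHom G R c.out).comp i.toRingHom with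
      commutes' := fun a => by
        change c.out • i (algebraMap A S a) = _
        rw [i.commutes, hAfix] }
  have hs : ∀ (g : G) (x : S), s (g : G ⧸ H) x = g • i x := fun g x => by
    obtain ⟨h, hh⟩ := QuotientGroup.mk_out_eq_mul H g
    change (g : G ⧸ H).out • i x = _
    rw [hh, mul_smul, hSfix]
  have hperm : ∀ (k : G) (c : G ⧸ H) (x : S), s (k • c) x = k • s c x := fun k c x => by
    induction c using QuotientGroup.induction_on with
    | H g => rw [hs, smul_smul, ← hs]; rfl
  have hpoly : ∀ F : (S → G ⧸ H → R) → R[X],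
      (∀ (k : G), (F fun x c => s c x).map (MulSemiringAction.toRingHom G R k) = F fun x c => s c x) →
      (F fun x c => s c x) ∈ lifts (algebraMap A R) := fun F hF =>
    (lifts_iff_coeff_lifts _).mpr fun n => hAinv _ fun k => by
      conv_rhs => rw [← hF k, coeff_map]
      rfl
  have hL : ∀ (k : G) (c : G ⧸ H),
      (lag (fun c => s c θ) c).map (MulSemiringAction.toRingHom G R k) = lag (fun c => s c θ) (k • c) := fun k c => by
    rw [lag, lag, Polynomial.map_prod]
    refine Finset.prod_equiv (MulAction.toPerm k) (fun d => by simp) fun d _ => ?_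
    rw [Polynomial.map_sub, Polynomial.map_X, Polynomial.map_C, MulAction.toPerm_apply]
    exact congrArg (fun r => X - Polynomial.C r) (hperm k d θ).symm
  have hi1 : ∀ x, s ((1 : G) : G ⧸ H) x = i x := fun x => by rw [hs, one_smul]
  obtain ⟨g, hg, het⟩ := exists_etale_away hA s ((1 : G) : G ⧸ H)
    (fun x y h => hi (by rw [← hi1, ← hi1]; exact h)) θ
    (hpoly (fun F => ∏ c, (X - Polynomial.C (F θ c))) fun k => by
      rw [Polynomial.map_prod]
      refine Fintype.prod_equiv (MulAction.toPerm k) _ _ fun d => ?_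
      rw [Polynomial.map_sub, Polynomial.map_X, Polynomial.map_C, MulAction.toPerm_apply]
      exact congrArg (fun r => X - Polynomial.C r) (hperm k d θ).symm)
    (fun x => hpoly (fun F => ∑ c, Polynomial.C (F x c) * lag (F θ) c) fun k => by
      rw [Polynomial.map_sum]
      refine Fintype.sum_equiv (MulAction.toPerm k) _ _ fun d => ?_
      rw [Polynomial.map_mul, Polynomial.map_C, hL, MulAction.toPerm_apply]
      exact congrArg (fun r => Polynomial.C r * lag (fun c => s c θ) (k • d)) (hperm k d x).symm)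
  refine ⟨g, fun hmem => ?_, het⟩
  rw [← hi1, hg, Ideal.IsPrime.prod_mem_iff] at hmem
  obtain ⟨d, hd, hdmem⟩ := hmem
  refine hθ d.out (fun hI => Finset.ne_of_mem_erase hd ?_) ?_
  · rw [← QuotientGroup.out_eq' d, eq_comm, QuotientGroup.eq, inv_one, one_mul]
    exact (SetLike.ext_iff.mp hH _).mpr hI
  · rw [hi1] at hdmem
    rw [← q.neg_mem_iff, neg_sub]
    exact hdmem

end Groth.Agent.H80.Inertia
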