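import Mathlib.RingTheory.Etale.StandardEtale
import Mathlib.RingTheory.Etale.Basic
import Mathlib.Algebra.Polynomial.Lifts
import Mathlib.Algebra.Polynomial.RingDivision

/-!
# Conjugates of one element give a standard etale algebra
-/

set_option autoImplicit false
set_option backward.isDefEq.respectTransparency false

universe u v

open Polynomial

namespace Groth.Agent.H80.Inertia

variable {R : Type u} [CommRing R] {C : Type v} [Fintype C] [DecidableEq C]

/-- The Lagrange factor of a point. -/
noncomputable def lag (t : C → R) (c : C) : R[X] := ∏ d ∈ Finset.univ.erase c, (X - Polynomial.C (t d))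

theorem mul_lag (t : C → R) (c : C) :
    (X - Polynomial.C (t c)) * lag t c = ∏ d, (X - Polynomial.C (t d)) :=
  Finset.mul_prod_erase Finset.univ (fun d => X - Polynomial.C (t d)) (Finset.mem_univ c)

theorem derivative_prod_eq (t : C → R) :
    derivative (∏ d, (X - Polynomial.C (t d))) = ∑ c, lag t c := by
  rw [derivative_prod_finset]
  simp [lag]

theorem eval_lag_self (t : C → R) (c : C) :
    (lag t c).eval (t c) = ∏ d ∈ Finset.univ.erase c, (t c - t d) := by
  simp [lag, eval_prod]

theorem eval_lag_ne (t : C → R) {c c' : C} (h : c' ≠ c) : (lag t c).eval (t c') = 0 := by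
  rw [lag, eval_prod]
  exact Finset.prod_eq_zero (Finset.mem_erase.mpr ⟨h, Finset.mem_univ _⟩) (by simp)

theorem eval_sum_lag (t y : C → R) (c₀ : C) :
    (∑ c, Polynomial.C (y c) * lag t c).eval (t c₀) = y c₀ * ∏ d ∈ Finset.univ.erase c₀, (t c₀ - t d) := by
  rw [eval_finsetSum, Finset.sum_eq_single c₀]
  · rw [eval_mul, eval_C, eval_lag_self]
  · intro c _ hne
    rw [eval_mul, eval_lag_ne t (Ne.symm hne), mul_zero]
  · exact fun h => absurd (Finset.mem_univ c₀) h

/-- A polynomial vanishing at all the points is a multiple of the product after multiplying by the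
derivative. -/
theorem dvd_mul_derivative (t : C → R) (Q : R[X]) (h : ∀ c, Q.eval (t c) = 0) :
    ∏ d, (X - Polynomial.C (t d)) ∣ Q * derivative (∏ d, (X - Polynomial.C (t d))) := by
  rw [derivative_prod_eq, Finset.mul_sum]
  refine Finset.dvd_sum fun c _ => ?_
  obtain ⟨r, hr⟩ := dvd_iff_isRoot.mpr (h c)
  exact ⟨r, by rw [← mul_lag t c, hr]; ring⟩

/-- If the Lagrange interpolations along the conjugates `s c θ` descend to `A`, inverting the derivative at
`θ` gives an etale algebra. -/
theorem exists_etale_away [Nontrivial R] {A S : Type u} [CommRing A] [CommRing S] [Algebra A S] [Algebra A R]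
    (hA : Function.Injective (algebraMap A R)) (s : C → S →ₐ[A] R) (c₀ : C) (hinj : Function.Injective (s c₀))
    (θ : S) (hf : ∏ c, (X - Polynomial.C (s c θ)) ∈ lifts (algebraMap A R))
    (hx : ∀ x : S, ∑ c, Polynomial.C (s c x) * lag (fun c => s c θ) c ∈ lifts (algebraMap A R)) :
    ∃ g : S, s c₀ g = ∏ d ∈ Finset.univ.erase c₀, (s c₀ θ - s d θ) ∧
      Algebra.Etale A (Localization.Away g) := by
  obtain ⟨f, hfm, -, hfmon⟩ := lifts_and_degree_eq_and_monic hf (monic_prod_X_sub_C _ _)
  have hev : ∀ (c : C) (P : A[X]), s c (aeval θ P) = (P.map (algebraMap A R)).eval (s c θ) := fun c P => by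
    rw [← aeval_algHom_apply, eval_map, aeval_def]
  have hg : s c₀ (aeval θ (derivative f)) = ∏ d ∈ Finset.univ.erase c₀, (s c₀ θ - s d θ) := by
    rw [hev, ← derivative_map, hfm, derivative_prod_eq]
    simpa using eval_sum_lag (fun c => s c θ) (fun _ => 1) c₀
  refine ⟨aeval θ (derivative f), hg, ?_⟩
  let g := aeval θ (derivative f)
  let P : StandardEtalePair A := ⟨f, hfmon, derivative f, 1, 0, 1, by ring⟩
  let ι := IsScalarTower.toAlgHom A S (Localization.Away g)
  have hfθ : aeval θ f = 0 := hinj (by
    rw [hev, hfm, map_zero, eval_prod]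
    exact Finset.prod_eq_zero (Finset.mem_univ c₀) (by simp))
  have hgu : IsUnit (algebraMap S (Localization.Away g) g) := IsLocalization.Away.algebraMap_isUnit g
  have hmap : P.HasMap (ι θ) :=
    ⟨by rw [aeval_algHom_apply]; exact (congrArg ι hfθ).trans (map_zero _), by
      rw [aeval_algHom_apply]; exact hgu⟩
  let φ := P.lift (ι θ) hmap
  have hφ : ∀ Q : A[X], φ (aeval P.X Q) = ι (aeval θ Q) := fun Q => by
    rw [← aeval_algHom_apply, P.lift_X, aeval_algHom_apply]
  have key : ∀ x : S, ∃ Q : A[X], aeval θ Q = x * g := fun x => by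
    obtain ⟨Q, hQ⟩ := (mem_lifts _).mp (hx x)
    refine ⟨Q, hinj ?_⟩
    rw [hev, hQ, map_mul, hg, eval_sum_lag (fun c => s c θ) (fun c => s c x) c₀]
  have hbij : Function.Bijective φ := by
    constructor
    · rw [injective_iff_map_eq_zero]
      intro z hz
      let e := P.equivAwayAdjoinRoot
      obtain ⟨k, w, hw⟩ := IsLocalization.Away.surj (AdjoinRoot.mk P.f P.g) (e z)
      obtain ⟨Q, rfl⟩ := AdjoinRoot.mk_surjective w
      have hmk : ∀ Q : A[X], algebraMap (AdjoinRoot P.f) (Localization.Away (AdjoinRoot.mk P.f P.g))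
          (AdjoinRoot.mk P.f Q) = e (aeval P.X Q) := fun Q => by
        have : (IsScalarTower.toAlgHom A (AdjoinRoot P.f) (Localization.Away (AdjoinRoot.mk P.f P.g))).comp
            (AdjoinRoot.mkₐ P.f) = e.toAlgHom.comp (aeval P.X) := by
          ext; simp [e, StandardEtalePair.equivAwayAdjoinRoot]
        exact DFunLike.congr_fun this Q
      rw [hmk, ← map_pow, hmk, ← map_mul] at hw
      have hzQ := e.injective hw
      have h1 : ι (aeval θ Q) = 0 := by rw [← hφ, ← hzQ, map_mul, hz, zero_mul]
      obtain ⟨m, hm⟩ := IsLocalization.Away.exists_of_eq (S := Localization.Away g) g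
        (a := aeval θ Q) (b := 0) (by rw [map_zero]; exact h1)
      rw [mul_zero] at hm
      have h2 : aeval θ (derivative f ^ m * Q) = 0 := by rw [map_mul, map_pow]; exact hm
      have h3 : f ∣ derivative f ^ m * Q * derivative f := by
        rw [← Polynomial.map_dvd_map (algebraMap A R) hA hfmon, Polynomial.map_mul, ← derivative_map, hfm]
        refine dvd_mul_derivative _ _ fun c => ?_
        rw [← hev, h2, map_zero]
      obtain ⟨r, hr⟩ := h3
      have h4 : aeval P.X (derivative f ^ m * Q * derivative f) = 0 := by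
        rw [hr, map_mul, show aeval P.X f = 0 from P.hasMap_X.1, zero_mul]
      have hu : IsUnit (aeval P.X (derivative f)) := P.hasMap_X.2
      rw [map_mul, map_mul, map_pow, hu.mul_left_eq_zero, (hu.pow m).mul_right_eq_zero] at h4
      rw [h4] at hzQ
      exact (hu.pow k).mul_left_eq_zero.mp hzQ
    · intro z
      obtain ⟨k, x, hx'⟩ := IsLocalization.Away.surj g z
      obtain ⟨Q, hQ⟩ := key x
      have hu : IsUnit (aeval P.X (derivative f)) := P.hasMap_X.2
      refine ⟨aeval P.X Q * ↑((hu.pow (k + 1)).unit⁻¹), ?_⟩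
      refine ((hgu.pow (k + 1)).mul_left_inj).mp ?_
      rw [show algebraMap S (Localization.Away g) g ^ (k + 1) = φ (aeval P.X (derivative f) ^ (k + 1)) by
        rw [map_pow, hφ]; rfl, ← map_mul, mul_assoc, IsUnit.val_inv_mul, mul_one, hφ, hQ, map_mul,
        map_pow, hφ]
      change algebraMap S _ x * algebraMap S _ g = z * algebraMap S _ g ^ (k + 1)
      rw [← hx', pow_succ]
      ring
  exact Algebra.Etale.of_equiv (AlgEquiv.ofBijective φ hbij)

end Groth.Agent.H80.Inertia
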